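import Groth.Agent.LocCohLib.Cech

/-!
# Cohomology of the extended Čech complex is torsion
-/

set_option autoImplicit false
set_option linter.all false

universe u

open CategoryTheory CategoryTheory.Limits CochainComplex

noncomputable section

namespace DCompCechLib

open LocCohLib HomologicalComplex

variable {R : Type u} [CommRing R]

/-- Killed by powers of `g`. -/
def PT (g : R) (N : Type u) [AddCommGroup N] [Module R N] : Prop := ∀ x : N, ∃ k : ℕ, g ^ k • x = 0

theorem pt_cocone {g : R} {K L : DRing.Cx R} (φ : K ⟶ L) (n : ℤ)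
    (h₁ : ∀ y : K.homology n, (homologyMap φ n).hom y = 0 → ∃ k : ℕ, g ^ k • y = 0)
    (h₂ : ∀ w : L.homology (n - 1), ∃ (j : ℕ) (y : K.homology (n - 1)), g ^ j • w = (homologyMap φ (n - 1)).hom y) :
    PT g ((mappingCocone φ).homology n : ModuleCat.{u} R) := by
  intro z
  obtain ⟨k, hk⟩ := h₁ ((homologyMap (mappingCocone.fst φ) n).hom z)
    (ConcreteCategory.congr_hom (homologyMap_fst_comp φ n) z)
  let T := mappingCocone.triangle φ
  let e := shiftHomologyIso (mappingCocone φ) 1 (n - 1) n (by omega)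
  let z' := e.inv.hom (g ^ k • z)
  have h0 : (homologyMap ((mappingCocone.fst φ)⟦(1 : ℤ)⟧') (n - 1)).hom z' = 0 := by
    refine (shiftHomologyIso K 1 (n - 1) n (by omega)).toLinearEquiv.injective ?_
    refine (ConcreteCategory.congr_hom
      (shiftHomologyIso_naturality (mappingCocone.fst φ) 1 (n - 1) n (by omega)) z').trans ?_
    refine Eq.trans ?_ (map_zero _).symm
    show (homologyMap (mappingCocone.fst φ) n).hom (e.hom.hom (e.inv.hom (g ^ k • z))) = 0
    rw [show e.hom.hom (e.inv.hom (g ^ k • z)) = g ^ k • z from e.toLinearEquiv.apply_symm_apply _, map_smul, hk]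
  have hex := exact_of_dist T.rotate.rotate (rotate_dist _ (rotate_dist _ (cocone_dist φ))) (n - 1)
  obtain ⟨w, hw⟩ := (ShortComplex.moduleCat_exact_iff _).1 hex z' (by
    show (homologyMap (-((mappingCocone.fst φ)⟦(1 : ℤ)⟧')) (n - 1)).hom z' = 0
    rw [homologyMap_neg]
    exact neg_eq_zero.2 h0)
  obtain ⟨j, y, hy⟩ := h₂ w
  have h3 : (homologyMap T.mor₃ (n - 1)).hom ((homologyMap φ (n - 1)).hom y) = 0 :=
    ConcreteCategory.congr_hom (comp_zero_of_dist T.rotate (rotate_dist _ (cocone_dist φ)) (n - 1)) y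
  have hw' : (homologyMap T.mor₃ (n - 1)).hom w = e.inv.hom (g ^ k • z) := hw
  refine ⟨j + k, e.symm.toLinearEquiv.injective ?_⟩
  show e.inv.hom (g ^ (j + k) • z) = e.inv.hom 0
  rw [pow_add, mul_smul, map_zero]
  exact (map_smul e.inv.hom (g ^ j) _).trans (((congrArg (g ^ j • ·) hw'.symm).trans
    (map_smul (homologyMap T.mor₃ (n - 1)).hom (g ^ j) w).symm).trans
      ((congrArg (homologyMap T.mor₃ (n - 1)).hom hy).trans h3))

variable (M : ModuleCat.{u} R)

theorem pt_extCech : ∀ (fs : List R) (g : R), g ∈ fs → ∀ n : ℤ, PT g ((DerCA.extCech M fs).homology n : ModuleCat.{u} R)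
  | [], g, hg, _ => absurd hg List.not_mem_nil
  | f :: fs, g, hg, n => by
    let K := DerCA.extCech M fs
    let S := Submonoid.powers f
    refine pt_cocone (DerCA.locCxUnit S K) n ?_ ?_
    · intro y hy
      rcases List.mem_cons.1 hg with h | h
      · subst h
        obtain ⟨⟨_, k, rfl⟩, hk⟩ := (homologyMap_locCxUnit_eq_zero_iff S K n y).1 hy
        exact ⟨k, hk⟩
      · exact pt_extCech fs g h n y
    · intro w
      obtain ⟨u, v, hφ⟩ := exists_iso_homologyMap_locCxUnit S K (n - 1)
      obtain ⟨⟨x, ⟨_, j, rfl⟩⟩, hx⟩ := IsLocalizedModule.surj S (LocalizedModule.mkLinearMap S (K.homology (n - 1))) (v.hom.hom w)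
      have hval : ∀ x' : K.homology (n - 1), (homologyMap (DerCA.locCxUnit S K) (n - 1)).hom (u.inv.hom x') =
          v.inv.hom (LocalizedModule.mkLinearMap S (K.homology (n - 1)) x') := fun x' => by
        rw [hφ]
        exact congrArg (fun t => v.inv.hom (LocalizedModule.mkLinearMap S (K.homology (n - 1)) t))
          (u.toLinearEquiv.apply_symm_apply x')
      have hw : f ^ j • w = (homologyMap (DerCA.locCxUnit S K) (n - 1)).hom (u.inv.hom x) := by
        rw [hval]
        refine Eq.trans ?_ (congrArg v.inv.hom hx)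
        refine Eq.trans ?_ (map_smul v.inv.hom (f ^ j) _).symm
        exact congrArg (f ^ j • ·) (v.toLinearEquiv.symm_apply_apply w).symm
      rcases List.mem_cons.1 hg with h | h
      · subst h
        exact ⟨j, _, hw⟩
      · obtain ⟨k, hk⟩ := pt_extCech fs g h (n - 1) (u.inv.hom x)
        refine ⟨k, 0, ?_⟩
        have h1 : f ^ j • g ^ k • w = 0 := by
          rw [smul_comm, hw, ← map_smul, hk, map_zero]
        rw [map_zero]
        refine v.toLinearEquiv.injective ((IsLocalizedModule.smul_injective (LocalizedModule.mkLinearMap S (K.homology (n - 1)))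
          (⟨f ^ j, j, rfl⟩ : S)) ?_)
        show f ^ j • v.hom.hom (g ^ k • w) = f ^ j • v.hom.hom 0
        exact (map_smul v.hom.hom (f ^ j) _).symm.trans ((congrArg v.hom.hom h1).trans (by rw [map_zero, smul_zero]))

/-- A common exponent. -/
theorem exists_pow_smul_eq_zero (fs : List R) (n : ℤ) (x : (DerCA.extCech M fs).homology n) :
    ∃ k : ℕ, 1 ≤ k ∧ ∀ f ∈ fs, f ^ k • x = 0 := by
  suffices h : ∀ l : List R, (∀ f ∈ l, f ∈ fs) → ∃ k : ℕ, 1 ≤ k ∧ ∀ f ∈ l, f ^ k • x = 0 from h fs fun _ h => h
  intro l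
  induction l with
  | nil => exact fun _ => ⟨1, le_rfl, by simp⟩
  | cons a l ih =>
    intro h
    obtain ⟨k, hk, hl⟩ := ih fun f hf => h f (List.mem_cons_of_mem _ hf)
    obtain ⟨j, hj⟩ := pt_extCech M fs a (h a (List.mem_cons_self ..)) n x
    refine ⟨j + k, by omega, fun f hf => ?_⟩
    rcases List.mem_cons.1 hf with rfl | hf
    · rw [add_comm, pow_add, mul_smul, hj, smul_zero]
    · rw [pow_add, mul_smul, hl f hf, smul_zero]

/-- Powers of the ideal kill each class. -/
theorem exists_pow_smul_eq_zero_of_mem (fs : List R) (n : ℤ) (x : (DerCA.extCech M fs).homology n) {f : R}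
    (hf : f ∈ Ideal.span {a | a ∈ fs}) : ∃ k : ℕ, f ^ k • x = 0 := by
  have hle : Ideal.span {a | a ∈ fs} ≤ Ideal.radical (LinearMap.ker (LinearMap.toSpanSingleton R _ x) : Ideal R) :=
    Ideal.span_le.2 fun a ha => by
      obtain ⟨k, hk⟩ := pt_extCech M fs a ha n x
      exact ⟨k, LinearMap.mem_ker.2 hk⟩
  obtain ⟨k, hk⟩ := hle hf
  exact ⟨k, LinearMap.mem_ker.1 hk⟩

theorem isZero_of_length_lt : ∀ (fs : List R) (n : ℤ), (fs.length : ℤ) < n →
    IsZero ((DerCA.extCech M fs).homology n)
  | [], n, hn => (HomologicalComplex.exactAt_iff_isZero_homology _ _).1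
      (HomologicalComplex.exactAt_single_obj _ _ _ _ (by simp only [List.length_nil, CharP.cast_eq_zero] at hn; omega))
  | f :: fs, n, hn => by
    simp only [List.length_cons, Nat.cast_add, Nat.cast_one] at hn
    have h := isZero_cocone' (DerCA.locCxUnit (Submonoid.powers f) (DerCA.extCech M fs)) (n - 1)
      (by rw [sub_add_cancel]; exact isZero_of_length_lt fs n (by omega))
      (isZero_homology_locCx _ _ _ (isZero_of_length_lt fs (n - 1) (by omega)))
    rw [sub_add_cancel] at h
    exact h

end DCompCechLib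

end
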