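import Groth.Agent.DCompCechLib.Torsion
import Groth.Agent.DCompRHomLib.Main
import Groth.Agent.DualCxLib.Uniq

/-!
# Derived completion as `RHom` out of the extended Čech complex
-/

set_option autoImplicit false
set_option linter.all false
set_option maxHeartbeats 1000000

universe u

open CategoryTheory CategoryTheory.Limits DTen DTenLib
open CategoryTheory.Pretriangulated (Triangle)
open Groth.Agent
open Groth.Agent.DualCxLib
open Groth.Agent.DCompLib (Comp resD extD)

attribute [local instance] HasDerivedCategory.standard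

noncomputable section

namespace DCompCechLib

variable {A : Type u} [CommRing A]

theorem isIso_smul_of_iso (g : A) {X Y : Dual.D A} (e : X ≅ Y) [IsIso (g • 𝟙 X)] : IsIso (g • 𝟙 Y) := by
  have : g • 𝟙 Y = e.inv ≫ (g • 𝟙 X) ≫ e.hom := by
    rw [Linear.smul_comp, Category.id_comp, Linear.comp_smul, Iso.inv_hom_id]
  rw [this]
  infer_instance

/-- No maps from torsion objects to objects on which `g` is invertible. -/
theorem subsingleton_hom_of_pt (g : A) {T : Dual.D A} (hT : ∀ i, PT g (Dual.HD A T i)) (W : Dual.D A)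
    [IsIso (g • 𝟙 W)] : Subsingleton (T ⟶ W) := by
  haveI := DCompRHomLib.isIso_toLocD g W
  have hz : IsZero ((DRingLib.locD g).obj T) := DRingLib.isZero_of_isZero_Hn fun i => by
    haveI := DRingLib.isLocalizedModule_HD_toLocD (g := g) T i
    haveI : Subsingleton ((DRingLib.hF A i).obj ((DRingLib.locD g).obj T)) := subsingleton_of_forall_eq 0 fun y => by
      obtain ⟨⟨x, ⟨_, m, rfl⟩⟩, hx⟩ :=
        IsLocalizedModule.surj (Submonoid.powers g) ((DRingLib.hF A i).map (DRingLib.toLocD g T)).hom y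
      obtain ⟨k, hk⟩ := hT i x
      refine IsLocalizedModule.smul_injective ((DRingLib.hF A i).map (DRingLib.toLocD g T)).hom
        (⟨g ^ (k + m), k + m, rfl⟩ : Submonoid.powers g) ?_
      show g ^ (k + m) • y = g ^ (k + m) • 0
      rw [pow_add, mul_smul, show g ^ m • y = _ from hx, smul_zero, ← map_smul]
      exact (congrArg _ hk).trans (map_zero _)
    exact ModuleCat.isZero_of_subsingleton _
  refine ⟨fun a b => (cancel_mono (DRingLib.toLocD g W)).1 ?_⟩
  exact ((DCompLib.adjD g).unit.naturality a).trans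
    ((congrArg ((DCompLib.adjD g).unit.app T ≫ ·) (hz.eq_of_src _ _)).trans ((DCompLib.adjD g).unit.naturality b).symm)

/-- Invisibility of the first term of a triangle. -/
theorem bijective_precomp {I : Ideal A} {a b c : Dual.D A} {f : a ⟶ b} {g : b ⟶ c} (h : IsTri f g)
    (ha : (DRing.IsDerivedComplete I).leftOrthogonal a) (Y : Dual.D A) (hY : DRing.IsDerivedComplete I Y) :
    Function.Bijective fun t : c ⟶ Y => g ≫ t := by
  obtain ⟨T, hT, d₁, d₂, d₃, -, w⟩ := h
  have ha' : (DRing.IsDerivedComplete I).leftOrthogonal T.obj₁ := ObjectProperty.prop_of_iso _ d₁.symm ha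
  have h0 : Function.Bijective fun t : T.obj₃ ⟶ Y => T.mor₂ ≫ t := by
    refine ⟨fun x y hxy => sub_eq_zero.1 ?_, fun x => ?_⟩
    · obtain ⟨u, hu⟩ := Triangle.yoneda_exact₃ _ hT (x - y)
        ((Preadditive.comp_sub _ _ _).trans (sub_eq_zero.2 hxy))
      rw [hu, (DRing.IsDerivedComplete I).leftOrthogonal.le_shift (1 : ℤ) _ ha' u hY, comp_zero]
    · obtain ⟨u, hu⟩ := Triangle.yoneda_exact₂ _ hT x (ha' _ hY)
      exact ⟨u, hu.symm⟩
  have := d₂.homFromEquiv.bijective.comp (h0.comp d₃.symm.homFromEquiv.bijective)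
  refine (congrArg Function.Bijective (funext fun t => ?_)).mpr this
  show g ≫ t = d₂.inv ≫ T.mor₂ ≫ d₃.hom ≫ t
  rw [← reassoc_of% w, Iso.inv_hom_id_assoc]

variable [HasLTen A] [HasLTen₃ A] [IsSymMonoidal A] [HasRHom A]

/-- `RHom` out of a torsion object is complete. -/
theorem comp_RHomR_of_pt (g : A) {T : Dual.D A} (hT : ∀ i, PT g (Dual.HD A T i)) (K : Dual.D A) :
    Comp g ((RHomR A T).obj K) := by
  refine (DCompLib.comp_iff_forall g).2 fun X => ?_
  let P := (resD g).obj X
  haveI : IsIso (g • 𝟙 P) := DCompRHomLib.isIso_smul_resD g X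
  let W := (tensorRightD A T).obj P
  haveI : IsIso (g • 𝟙 W) := RHomCompLib.isIso_smul_map g (RHomCompLib.tensorRightD_map_smul_id g T) P
  haveI := RHomCompLib.isIso_smul_map g (RHomCompLib.RHomR_map_smul_id g P) W
  haveI : Subsingleton (T ⟶ (RHomR A P).obj W) := subsingleton_hom_of_pt g hT _
  have hTP : Subsingleton ((LTen₂ A).obj (T, P) ⟶ W) := ((rhomAdj A P).homEquiv T W).subsingleton
  have h0 : 𝟙 W = 0 := (cancel_epi (braiding P T).hom).1 (hTP.elim _ _)
  haveI : Subsingleton (W ⟶ K) := ⟨fun a b => by rw [← Category.id_comp a, ← Category.id_comp b, h0, zero_comp, zero_comp]⟩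
  exact ((rhomAdj A T).homEquiv P K).symm.subsingleton

/-- `g` is invertible on `RHom` out of an object on which it is invertible. -/
theorem isIso_smul_RHomR (g : A) (L : Dual.D A) [IsIso (g • 𝟙 L)] (K : Dual.D A) :
    IsIso (g • 𝟙 ((RHomR A L).obj K)) := by
  refine isIso_of_yoneda_map_bijective _ fun Z => ?_
  haveI := RHomCompLib.isIso_smul_map g (RHomCompLib.tensorRightD_map_smul_id g Z) L
  haveI : IsIso (g • 𝟙 ((LTen₂ A).obj (L, Z))) := RHomCompLib.isIso_smul_map g (RHomCompLib.tensorRightD_map_smul_id g Z) L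
  haveI : IsIso (g • 𝟙 ((LTen₂ A).obj (Z, L))) := isIso_smul_of_iso g (braiding Z L)
  let e := DualCxLib.homLEquiv Z L K
  have h1 : Function.Bijective fun t : (LTen₂ A).obj (Z, L) ⟶ K => g • t := by
    have := (asIso (g • 𝟙 ((LTen₂ A).obj (Z, L)))).symm.homFromEquiv.bijective (α := (LTen₂ A).obj (Z, L) ⟶ K)
    refine (congrArg Function.Bijective (funext fun t => ?_)).mpr this
    show g • t = (g • 𝟙 _) ≫ t
    rw [Linear.smul_comp, Category.id_comp]
  refine (congrArg Function.Bijective (funext fun t => ?_)).mpr (e.bijective.comp (h1.comp e.symm.bijective))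
  show t ≫ (g • 𝟙 _) = e (g • e.symm t)
  rw [Linear.comp_smul, Category.comp_id, map_smul, LinearEquiv.apply_symm_apply]

/-- The localised complex is local. -/
theorem isIso_smul_locCx (g : A) (C : DRing.Cx A) :
    IsIso (g • 𝟙 (DerivedCategory.Q.obj ((DerCA.locCx (Submonoid.powers g)).obj C))) := by
  let Cg := (DerCA.locCx (Submonoid.powers g)).obj C
  haveI : ∀ n, IsIso ((g • 𝟙 Cg : Cg ⟶ Cg).f n) := fun n => by
    refine (ConcreteCategory.isIso_iff_bijective _).2 ?_
    exact (Module.End.isUnit_iff (algebraMap A (Module.End A (LocalizedModule (Submonoid.powers g) (C.X n))) g)).1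
      (IsLocalizedModule.map_units (LocalizedModule.mkLinearMap (Submonoid.powers g) (C.X n))
        (⟨g, Submonoid.mem_powers g⟩ : Submonoid.powers g))
  haveI : IsIso (g • 𝟙 Cg) := HomologicalComplex.Hom.isIso_of_components _
  rw [← CategoryTheory.Functor.map_id, ← Functor.map_smul]
  infer_instance

/-- One Čech step. -/
theorem exists_step {I : Ideal A} {f : A} (hf : f ∈ I) (C : DRing.Cx A) (K : Dual.D A) :
    ∃ r : (RHomR A (DerivedCategory.Q.obj C)).obj K ⟶
        (RHomR A (DerivedCategory.Q.obj (CochainComplex.mappingCocone (DerCA.locCxUnit (Submonoid.powers f) C)))).obj K,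
      ∀ Y, DRing.IsDerivedComplete I Y → Function.Bijective fun t => r ≫ (t : _ ⟶ Y) := by
  let φ := DerCA.locCxUnit (Submonoid.powers f) C
  let T₀ := DerivedCategory.Q.mapTriangle.obj (CochainComplex.mappingCone.triangle φ)
  have hT := Pretriangulated.inv_rot_of_distTriang _ (DerivedCategory.mappingCone_triangle_distinguished φ)
  have htri := isTri_RHom K T₀.invRotate hT
  haveI := isIso_smul_locCx f C
  haveI := isIso_smul_RHomR f (DerivedCategory.Q.obj ((DerCA.locCx (Submonoid.powers f)).obj C)) K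
  have hb := bijective_precomp htri
    (DCompRHomLib.leftOrthogonal_of_isIso_smul hf
      ((RHomR A (DerivedCategory.Q.obj ((DerCA.locCx (Submonoid.powers f)).obj C))).obj K))
  let e : DerivedCategory.Q.obj (CochainComplex.mappingCocone φ) ≅ T₀.invRotate.obj₁ :=
    (DerivedCategory.Q.commShiftIso (-1 : ℤ)).app _
  let i := ((RHom A).mapIso e.op).app K
  refine ⟨RHomMap T₀.invRotate.mor₁ K ≫ i.hom, fun Y hY => ?_⟩
  refine (congrArg Function.Bijective (funext fun t => ?_)).mpr ((hb Y hY).comp i.symm.homFromEquiv.bijective)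
  exact Category.assoc _ _ _

/-- The comparison map to `RHom` out of the Čech complex. -/
theorem exists_toCech {I : Ideal A} (K : Dual.D A) : ∀ fs : List A, (∀ f ∈ fs, f ∈ I) →
    ∃ q : K ⟶ (RHomR A (DerivedCategory.Q.obj (DerCA.extCech (ModuleCat.of A A) fs))).obj K,
      ∀ Y, DRing.IsDerivedComplete I Y → Function.Bijective fun t => q ≫ (t : _ ⟶ Y)
  | [], _ => by
    obtain ⟨a⟩ := DualCxLib.nonempty_RHom_unit K
    let e : DerivedCategory.Q.obj (DerCA.extCech (ModuleCat.of A A) []) ≅ unit A :=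
      ((DerivedCategory.singleFunctorIsoCompQ (ModuleCat.{u} A) 0).app (ModuleCat.of A A)).symm
    let i := a ≪≫ ((RHom A).mapIso e.op).app K
    exact ⟨i.hom, fun Y _ => i.symm.homFromEquiv.bijective⟩
  | f :: fs, h => by
    obtain ⟨q, hq⟩ := exists_toCech K fs fun g hg => h g (List.mem_cons_of_mem _ hg)
    obtain ⟨r, hr⟩ := exists_step (h f (List.mem_cons_self ..)) (DerCA.extCech (ModuleCat.of A A) fs) K
    refine ⟨q ≫ r, fun Y hY => ?_⟩
    refine (congrArg Function.Bijective (funext fun t => ?_)).mpr ((hq Y hY).comp (hr Y hY))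
    exact Category.assoc _ _ _

/-- The derived completion is `RHom` out of the Čech complex. -/
theorem nonempty_completion_iso {I : Ideal A} [DRing.HasDerivedCompletion I] (fs : List A)
    (hI : Ideal.span {x : A | x ∈ fs} = I) (K : Dual.D A) :
    Nonempty (((DRing.derivedCompletion I).obj K).obj ≅
      (RHomR A (DerivedCategory.Q.obj (DerCA.extCech (ModuleCat.of A A) fs))).obj K) := by
  obtain ⟨q, hq⟩ := exists_toCech (I := I) K fs fun f hf => hI ▸ Ideal.subset_span hf
  have hpt : ∀ f ∈ fs, ∀ i, PT f (Dual.HD A (DerivedCategory.Q.obj (DerCA.extCech (ModuleCat.of A A) fs)) i) :=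
    fun f hf i x => by
      let e := ((DerivedCategory.homologyFunctorFactors (ModuleCat.{u} A) i).app
        (DerCA.extCech (ModuleCat.of A A) fs)).toLinearEquiv
      obtain ⟨k, hk⟩ := pt_extCech (ModuleCat.of A A) fs f hf i (e x)
      exact ⟨k, e.injective ((map_smul e (f ^ k) x).trans (hk.trans (map_zero e).symm))⟩
  have hc : DRing.IsDerivedComplete I ((RHomR A (DerivedCategory.Q.obj (DerCA.extCech (ModuleCat.of A A) fs))).obj K) :=
    hI ▸ DCompLib.isDerivedComplete_span_iff.2 fun f hf => comp_RHomR_of_pt f (hpt f hf) K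
  exact (DCompLib.isRefl_unit K).iso (⟨hc, hq⟩ : DCompLib.IsRefl I q)

end DCompCechLib

end
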